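import Cfsg.Agent.DerangeTwo.Pairs

/-!
# Counting fixed points and derangements
-/

set_option autoImplicit false

namespace Cfsg.Agent.DerangeTwo

open MulAction Finset

variable {G Ω : Type*} [Group G] [Fintype G] [MulAction G Ω] [Fintype Ω] [DecidableEq Ω]

/-- The fixed points of `g`. -/
def fixF (Ω : Type*) {G : Type*} [Group G] [MulAction G Ω] [Fintype Ω] [DecidableEq Ω] (g : G) :
    Finset Ω :=
  univ.filter fun w => g • w = w

omit [Fintype G] in
theorem mem_fixF {g : G} {w : Ω} : w ∈ fixF Ω g ↔ g • w = w := by simp [fixF]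

omit [Fintype G] in
theorem card_fixedBy (g : G) : Nat.card (fixedBy Ω g) = #(fixF Ω g) := by
  classical
  rw [Nat.card_eq_fintype_card]
  exact Fintype.card_of_subtype _ fun w => mem_fixF

omit [Fintype G] in
theorem fixF_one : fixF Ω (1 : G) = univ := by ext w; simp [mem_fixF]

omit [Fintype G] in
theorem card_fixF_conj (g x : G) : #(fixF Ω (g * x * g⁻¹)) = #(fixF Ω x) := by
  refine card_bij' (fun w _ => g⁻¹ • w) (fun w _ => g • w) ?_ ?_ ?_ ?_ <;>
    simp [mem_fixF, mul_smul, smul_eq_iff_eq_inv_smul]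

theorem sum_fix (htr : IsPretransitive G Ω) [Nonempty Ω] :
    ∑ g : G, #(fixF Ω g) = Fintype.card G := by
  classical
  have : Unique (orbitRel.Quotient G Ω) :=
    { default := Quotient.mk'' (Classical.arbitrary Ω)
      uniq := fun q => Quotient.inductionOn' q fun w =>
        Quotient.sound' (orbitRel_apply.2 (MulAction.exists_smul_eq G _ w)) }
  have h := sum_card_fixedBy_eq_card_orbits_mul_card_group G Ω
  rw [Fintype.card_unique, one_mul] at h
  refine (Finset.sum_congr rfl fun g _ => ?_).trans h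
  rw [← card_fixedBy, Nat.card_eq_fintype_card]

/-- Either the group is doubly transitive or the squares of the fixed point numbers add up to at
least three times the order. -/
theorem two_or_three_le_sum_sq (hn : 2 ≤ Fintype.card Ω) (htr : IsPretransitive G Ω) :
    IsMultiplyPretransitive G Ω 2 ∨ 3 * Fintype.card G ≤ ∑ g : G, #(fixF Ω g) ^ 2 := by
  classical
  by_cases h2 : IsMultiplyPretransitive G Ω 2
  · exact Or.inl h2
  right
  rw [is_two_pretransitive_iff] at h2
  push Not at h2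
  obtain ⟨a, b, c, d, hab, hcd, hno⟩ := h2
  have h := sum_card_fixedBy_eq_card_orbits_mul_card_group G (Ω × Ω)
  have hf : ∀ g : G, Fintype.card (fixedBy (Ω × Ω) g) = #(fixF Ω g) ^ 2 := fun g => by
    rw [sq, ← card_product]
    refine Fintype.card_of_subtype _ fun p => ?_
    simp [mem_fixF, Prod.ext_iff]
  rw [Finset.sum_congr rfl (fun g _ => hf g)] at h
  rw [h]
  refine Nat.mul_le_mul_right _ ?_
  let f : Fin 3 → orbitRel.Quotient G (Ω × Ω) :=
    ![Quotient.mk'' (a, a), Quotient.mk'' (a, b), Quotient.mk'' (c, d)]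
  refine le_of_eq_of_le (Fintype.card_fin 3).symm (Fintype.card_le_of_injective f ?_)
  have key : ∀ (p q : Ω × Ω), (Quotient.mk'' p : orbitRel.Quotient G (Ω × Ω)) = Quotient.mk'' q →
      ∃ g : G, g • q.1 = p.1 ∧ g • q.2 = p.2 := fun p q e => by
    obtain ⟨g, hg⟩ := orbitRel_apply.1 (Quotient.exact' e)
    exact ⟨g, congrArg Prod.fst hg, congrArg Prod.snd hg⟩
  have h1 : f 0 ≠ f 1 := fun e => by
    obtain ⟨g, e1, e2⟩ := key (a, a) (a, b) e
    exact hab (MulAction.injective g (e1.trans e2.symm))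
  have h2 : f 0 ≠ f 2 := fun e => by
    obtain ⟨g, e1, e2⟩ := key (a, a) (c, d) e
    exact hcd (MulAction.injective g (e1.trans e2.symm))
  have h3 : f 1 ≠ f 2 := fun e => by
    obtain ⟨g, e1, e2⟩ := key (c, d) (a, b) e.symm
    exact hno g e1 e2
  intro i j e
  fin_cases i <;> fin_cases j <;> simp_all

/-- The basic inequality. -/
theorem derange_identity (htr : IsPretransitive G Ω) [Nonempty Ω] :
    (∑ g : G, if #(fixF Ω g) = 0 then (0 : ℚ)
      else ((#(fixF Ω g) : ℚ) - 1) * ((Fintype.card Ω : ℚ) - #(fixF Ω g))) =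
    (Fintype.card Ω : ℚ) * #(univ.filter fun g : G => #(fixF Ω g) = 0) + Fintype.card G -
      ∑ g : G, (#(fixF Ω g) : ℚ) ^ 2 := by
  set n : ℚ := ((Fintype.card Ω : ℕ) : ℚ)
  have hterm : ∀ g : G, (if #(fixF Ω g) = 0 then (0 : ℚ)
      else ((#(fixF Ω g) : ℚ) - 1) * (n - #(fixF Ω g))) =
      n * (if #(fixF Ω g) = 0 then 1 else 0) + ((n + 1) * #(fixF Ω g) - n - (#(fixF Ω g) : ℚ) ^ 2) := by
    intro g
    split_ifs with h
    · rw [h]; push_cast; ring
    · ring
  have hs : (∑ g : G, (#(fixF Ω g) : ℚ)) = Fintype.card G := by exact_mod_cast sum_fix htr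
  simp only [hterm, sum_add_distrib, sum_sub_distrib, ← mul_sum, hs, sum_boole, sum_const,
    card_univ, nsmul_eq_mul]
  ring

theorem two_card_le_of_sum_sq (htr : IsPretransitive G Ω) [Nonempty Ω]
    (h : 3 * Fintype.card G ≤ ∑ g : G, #(fixF Ω g) ^ 2) :
    2 * Fintype.card G ≤ Fintype.card Ω * #(univ.filter fun g : G => #(fixF Ω g) = 0) := by
  have h0 : (0 : ℚ) ≤ ∑ g : G, if #(fixF Ω g) = 0 then (0 : ℚ)
      else ((#(fixF Ω g) : ℚ) - 1) * ((Fintype.card Ω : ℚ) - #(fixF Ω g)) := by
    refine sum_nonneg fun g _ => ?_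
    split_ifs with hg
    · exact le_rfl
    · refine mul_nonneg (sub_nonneg.2 (by exact_mod_cast Nat.pos_of_ne_zero hg)) (sub_nonneg.2 ?_)
      exact_mod_cast card_le_univ _
  rw [derange_identity htr] at h0
  have h' : (3 : ℚ) * Fintype.card G ≤ ∑ g : G, (#(fixF Ω g) : ℚ) ^ 2 := by exact_mod_cast h
  have : (2 : ℚ) * Fintype.card G ≤
      Fintype.card Ω * #(univ.filter fun g : G => #(fixF Ω g) = 0) := by linarith
  exact_mod_cast this



open scoped Classical in
/-- Double counting over ordered pairs of different fixed points. -/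
theorem sum_pairs (h2 : IsMultiplyPretransitive G Ω 2) {a b : Ω} (hab : a ≠ b) (φ : G → ℚ)
    (hφ : ∀ g x : G, φ (g * x * g⁻¹) = φ x) :
    ∑ g : G, (#(fixF Ω g) : ℚ) * (#(fixF Ω g) - 1) * φ g =
      (Fintype.card Ω : ℚ) * (Fintype.card Ω - 1) * ∑ g ∈ univ.filter (· ∈ pst G a b), φ g := by
  have hoff : ∀ s : Finset Ω, (#s.offDiag : ℚ) = #s * (#s - 1) := fun s => by
    rw [offDiag_card, Nat.cast_sub (Nat.le_mul_self _), Nat.cast_mul]; ring
  calc ∑ g : G, (#(fixF Ω g) : ℚ) * (#(fixF Ω g) - 1) * φ g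
      = ∑ g : G, ∑ p ∈ (univ : Finset Ω).offDiag, if g ∈ pst G p.1 p.2 then φ g else 0 := by
        refine sum_congr rfl fun g _ => ?_
        rw [← sum_filter, sum_const, nsmul_eq_mul, ← hoff]
        congr 2
        refine congrArg card ?_
        ext p
        simp [mem_offDiag, mem_fixF, mem_pst]
        tauto
    _ = ∑ p ∈ (univ : Finset Ω).offDiag, ∑ g : G, if g ∈ pst G p.1 p.2 then φ g else 0 := sum_comm
    _ = ∑ p ∈ (univ : Finset Ω).offDiag, ∑ g ∈ univ.filter (· ∈ pst G a b), φ g := by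
        refine sum_congr rfl fun p hp => ?_
        obtain ⟨x, hx1, hx2⟩ := is_two_pretransitive_iff.1 h2 hab (mem_offDiag.1 hp).2.2
        rw [← sum_filter, ← hx1, ← hx2]
        refine (sum_bij' (fun g _ => x * g * x⁻¹) (fun g _ => x⁻¹ * g * x) ?_ ?_ ?_ ?_ ?_).symm
        · intro g hg
          simpa [conj_mem_pst] using hg
        · intro g hg
          rw [mem_filter] at hg ⊢
          exact ⟨mem_univ _, (conj_mem_pst x _).1 (by simpa [mul_assoc] using hg.2)⟩
        · intro g _; group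
        · intro g _; group
        · intro g _; exact (hφ x g).symm
    _ = _ := by rw [sum_const, nsmul_eq_mul, hoff, card_univ]

open scoped Classical in
theorem card_eq_mul_pst (h2 : IsMultiplyPretransitive G Ω 2) {a b : Ω} (hab : a ≠ b) :
    Fintype.card G = Fintype.card Ω * (Fintype.card Ω - 1) * Nat.card (pst G a b) := by
  have horb : orbit G (a, b) = ((univ : Finset Ω).offDiag : Set (Ω × Ω)) := by
    ext p
    constructor
    · rintro ⟨g, rfl⟩
      simpa [mem_offDiag] using hab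
    · intro hp
      obtain ⟨g, h1, h2⟩ := is_two_pretransitive_iff.1 h2 hab (mem_offDiag.1 hp).2.2
      exact ⟨g, Prod.ext h1 h2⟩
  have h := card_orbit_mul_card_stabilizer_eq_card_group G (a, b)
  rw [← Nat.card_eq_fintype_card, ← Nat.card_eq_fintype_card, horb, Nat.card_coe_set_eq,
    Set.ncard_coe_finset, offDiag_card, card_univ] at h
  rw [← h, Nat.mul_sub_one]
  congr 1
  refine Nat.card_congr (Equiv.subtypeEquivRight fun g => ?_)
  simp [mem_pst, mem_stabilizer_iff, Prod.ext_iff]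


open scoped Classical in
/-- The criterion for doubly transitive groups. -/
theorem two_card_le_of_criterion (hn : 2 ≤ Fintype.card Ω) (htr : IsPretransitive G Ω)
    (h2 : IsMultiplyPretransitive G Ω 2) {a b : Ω} (hab : a ≠ b)
    (hcrit : 2 * (Nat.card (pst G a b) : ℚ) - 1 ≤
      ∑ g ∈ (univ.filter (· ∈ pst G a b)).erase 1, (Fintype.card Ω : ℚ) / #(fixF Ω g)) :
    2 * Fintype.card G ≤ Fintype.card Ω * #(univ.filter fun g : G => #(fixF Ω g) = 0) := by
  have : Nonempty Ω := ⟨a⟩
  set n : ℚ := ((Fintype.card Ω : ℕ) : ℚ) with hn'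
  have hn0 : (2 : ℚ) ≤ n := by rw [hn']; exact_mod_cast hn
  have hc : #(univ.filter (· ∈ pst G a b)) = Nat.card (pst G a b) := by
    rw [Nat.card_eq_fintype_card]
    exact (Fintype.card_of_subtype _ fun g => by simp).symm
  have h1 := sum_pairs h2 hab (fun g => n / #(fixF Ω g) - 1)
    (fun g x => by rw [card_fixF_conj])
  have h3 := sum_pairs h2 hab (fun _ => (1 : ℚ)) (fun _ _ => rfl)
  simp only [mul_one, sum_const, nsmul_eq_mul, hc, mul_sub, sum_sub_distrib] at h3
  rw [← hn'] at h3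
  have hG : (Fintype.card G : ℚ) = n * (n - 1) * Nat.card (pst G a b) := by
    rw [hn', card_eq_mul_pst h2 hab]
    push_cast [Nat.cast_sub (by omega : 1 ≤ Fintype.card Ω)]
    ring
  have hs : (∑ g : G, (#(fixF Ω g) : ℚ)) = Fintype.card G := by exact_mod_cast sum_fix htr
  have hsq : ∑ g : G, (#(fixF Ω g) : ℚ) ^ 2 = 2 * Fintype.card G := by
    simp only [sq]
    rw [hs] at h3
    linarith
  have hid := derange_identity (G := G) (Ω := Ω) htr
  rw [← hn', hsq] at hid
  have hle : (Fintype.card G : ℚ) ≤ ∑ g : G, (if #(fixF Ω g) = 0 then (0 : ℚ)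
      else ((#(fixF Ω g) : ℚ) - 1) * (n - #(fixF Ω g))) := by
    have heq : ∀ g : G, (#(fixF Ω g) : ℚ) * (#(fixF Ω g) - 1) * (n / #(fixF Ω g) - 1) =
        if #(fixF Ω g) = 0 then (0 : ℚ) else ((#(fixF Ω g) : ℚ) - 1) * (n - #(fixF Ω g)) := by
      intro g
      split_ifs with h
      · rw [h]; push_cast; ring
      · have : (#(fixF Ω g) : ℚ) ≠ 0 := by exact_mod_cast h
        field_simp
    rw [Finset.sum_congr rfl (fun g _ => (heq g).symm), h1, hG]
    refine mul_le_mul_of_nonneg_left ?_ (mul_nonneg (by linarith) (by linarith))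
    rw [sum_sub_distrib, sum_const, nsmul_eq_mul, mul_one, hc,
      ← add_sum_erase _ _ (show (1 : G) ∈ univ.filter (· ∈ pst G a b) by simp [one_mem]),
      fixF_one, card_univ, ← hn', div_self (by linarith)]
    linarith
  have : (2 : ℚ) * Fintype.card G ≤ n * #(univ.filter fun g : G => #(fixF Ω g) = 0) := by linarith
  rw [hn'] at this
  exact_mod_cast this

end Cfsg.Agent.DerangeTwo
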