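import Mathlib

/-!
# Families of subgroups of equal order meeting pairwise in subgroups of index two
-/

set_option autoImplicit false

namespace Cfsg.Agent.DerangeTwo

open Subgroup

variable {G : Type*} [Group G] [Finite G]

theorem card_mul_relIndex {A H : Subgroup G} (h : A ≤ H) :
    Nat.card A * A.relIndex H = Nat.card H := by
  have h1 := (A.subgroupOf H).card_mul_index
  rwa [Nat.card_congr (subgroupOfEquivOfLe h).toEquiv] at h1

theorem relIndex_eq_two {A H : Subgroup G} (h : A ≤ H) (hc : 2 * Nat.card A = Nat.card H) :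
    A.relIndex H = 2 := by
  have h1 := card_mul_relIndex h
  rw [← hc, mul_comm 2] at h1
  exact Nat.eq_of_mul_eq_mul_left Nat.card_pos h1

theorem le_normalizer_of_half {A H : Subgroup G} (h : A ≤ H)
    (hc : 2 * Nat.card A = Nat.card H) : H ≤ normalizer (A : Set G) :=
  (normal_subgroupOf_iff_le_normalizer h).1 (normal_of_index_eq_two (relIndex_eq_two h hc))

/-- Two different subgroups of index two generate, and meet in index four. -/
theorem half_pair {A B H : Subgroup G} (hA : A ≤ H) (hB : B ≤ H)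
    (hcA : 2 * Nat.card A = Nat.card H) (hcB : 2 * Nat.card B = Nat.card H) (hne : A ≠ B) :
    A ⊔ B = H ∧ 4 * Nat.card ↥(A ⊓ B) = Nat.card H := by
  have hnle : ¬ A ≤ B := fun h => hne (eq_of_le_of_card_ge h (by omega))
  constructor
  · refine eq_of_le_of_card_ge (sup_le hA hB) ?_
    obtain ⟨k, hk⟩ := card_dvd_of_le (le_sup_right : B ≤ A ⊔ B)
    have hk2 : 2 ≤ k := by
      by_contra hlt
      have hle : Nat.card ↥(A ⊔ B) ≤ Nat.card B := by
        rw [hk]
        exact le_of_le_of_eq (Nat.mul_le_mul_left _ (by omega : k ≤ 1)) (mul_one _)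
      exact hnle (le_sup_left.trans (eq_of_le_of_card_ge le_sup_right hle).ge)
    calc Nat.card H = Nat.card B * 2 := by rw [mul_comm, hcB]
      _ ≤ Nat.card B * k := Nat.mul_le_mul_left _ hk2
      _ = Nat.card ↥(A ⊔ B) := hk.symm
  · have h2 : B.relIndex A = 2 := by
      have hle : B.relIndex A ≤ 2 := by
        rw [← relIndex_eq_two hB hcB]
        exact relIndex_le_of_le_right hA (by rw [relIndex_eq_two hB hcB]; norm_num)
      have h1 : B.relIndex A ≠ 1 := fun h => hnle (relIndex_eq_one.1 h)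
      have h0 : B.relIndex A ≠ 0 := Subgroup.index_ne_zero_of_finite
      omega
    have h3 := card_mul_relIndex (inf_le_left : A ⊓ B ≤ A)
    rw [show (A ⊓ B).relIndex A = 2 by rw [inf_comm, inf_relIndex_right, h2]] at h3
    omega

/-- The dichotomy: a common subgroup of index two, or a common overgroup of twice the order. -/
theorem halves_dichotomy {I : Type*} [Nonempty I] (H : I → Subgroup G) (m : ℕ)
    (hm : ∀ i, Nat.card (H i) = m)
    (hp : ∀ i j, H i ≠ H j → 2 * Nat.card ↥(H i ⊓ H j) = m) :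
    (∃ A, (∀ i, A ≤ H i) ∧ m ≤ 2 * Nat.card A) ∨
      ∃ P, (∀ i, H i ≤ P) ∧ Nat.card P = 2 * m ∧ ∀ i j, H i ≠ H j → H i ⊔ H j = P := by
  by_cases hall : ∀ i j, H i = H j
  · obtain ⟨i⟩ := (inferInstance : Nonempty I)
    exact Or.inl ⟨H i, fun j => (hall i j).le, by rw [hm]; omega⟩
  push Not at hall
  obtain ⟨i, j, hij⟩ := hall
  by_cases hA : ∀ k, H i ⊓ H j ≤ H k
  · exact Or.inl ⟨H i ⊓ H j, hA, (hp i j hij).ge⟩
  push Not at hA
  obtain ⟨k, hk⟩ := hA
  have hhalf : ∀ a b, H a ≠ H b → 2 * Nat.card ↥(H a ⊓ H b) = Nat.card (H a) := fun a b h =>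
    (hp a b h).trans (hm a).symm
  -- the step: a member not containing `H a ⊓ H b` lies in `H a ⊔ H b`
  have step : ∀ a b c, H a ≠ H b → ¬ H a ⊓ H b ≤ H c →
      H c ≤ H a ⊔ H b ∧ Nat.card ↥(H a ⊔ H b) = 2 * m := by
    intro a b c hab hc
    have hca : H c ≠ H a := fun h => hc (h ▸ inf_le_left)
    have hcb : H c ≠ H b := fun h => hc (h ▸ inf_le_right)
    have hne : H c ⊓ H a ≠ H c ⊓ H b := by
      intro h
      refine hc (le_trans ?_ (inf_le_left : H c ⊓ H a ≤ H c))
      have h1 : H c ⊓ H a ≤ H a ⊓ H b := le_inf inf_le_right (h ▸ inf_le_right)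
      exact (eq_of_le_of_card_ge h1 (by
        have := hp a b hab; have := hp c a hca; omega)).ge
    obtain ⟨hgen, hquad⟩ := half_pair (inf_le_left : H c ⊓ H a ≤ H c) (inf_le_left : H c ⊓ H b ≤ H c)
      (hhalf c a hca) (hhalf c b hcb) hne
    have hcle : H c ≤ H a ⊔ H b := hgen ▸ sup_le (inf_le_right.trans le_sup_left)
      (inf_le_right.trans le_sup_right)
    refine ⟨hcle, ?_⟩
    set A := H a ⊓ H b with hAdef
    have hna : H a ≤ normalizer (A : Set G) := le_normalizer_of_half inf_le_left (hhalf a b hab)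
    have hnb : H b ≤ normalizer (A : Set G) :=
      le_normalizer_of_half inf_le_right ((hp a b hab).trans (hm b).symm)
    have ha' : H a ≤ H c ⊔ A := by
      rw [← (half_pair (inf_le_right : H c ⊓ H a ≤ H a) (inf_le_left : A ≤ H a)
        (by rw [hp c a hca, hm]) (hhalf a b hab)
        fun h => hc ((h.ge : A ≤ _).trans inf_le_left)).1]
      exact sup_le (inf_le_left.trans le_sup_left) le_sup_right
    have hb' : H b ≤ H c ⊔ A := by
      rw [← (half_pair (inf_le_right : H c ⊓ H b ≤ H b) (inf_le_right : A ≤ H b)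
        (by rw [hp c b hcb, hm]) (by rw [hp a b hab, hm])
        fun h => hc ((h.ge : A ≤ _).trans inf_le_left)).1]
      exact sup_le (inf_le_left.trans le_sup_left) le_sup_right
    have hP : H a ⊔ H b = H c ⊔ A :=
      le_antisymm (sup_le ha' hb') (sup_le hcle (inf_le_left.trans le_sup_left))
    rw [hP]
    have hnc : H c ≤ normalizer (A : Set G) := hcle.trans (sup_le hna hnb)
    have hri : A.relIndex (H c ⊔ A) = A.relIndex (H c) := by
      have hsup : H c ⊔ A ≤ normalizer (A : Set G) := sup_le hnc le_normalizer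
      have : (A.subgroupOf (H c ⊔ A)).Normal :=
        (normal_subgroupOf_iff_le_normalizer le_sup_right).2 hsup
      have := relIndex_sup_right (K := A.subgroupOf (H c ⊔ A)) (H := (H c).subgroupOf (H c ⊔ A))
      rwa [← subgroupOf_sup le_sup_left le_sup_right, relIndex_subgroupOf le_rfl,
        relIndex_subgroupOf le_sup_left] at this
    have h4 : A.relIndex (H c) = 4 := by
      have h1 := card_mul_relIndex (inf_le_right : A ⊓ H c ≤ H c)
      rw [inf_relIndex_right] at h1
      have h2 : 4 * Nat.card ↥(A ⊓ H c) = Nat.card (H c) := by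
        rw [show A ⊓ H c = H c ⊓ H a ⊓ (H c ⊓ H b) by
          rw [hAdef]; ac_rfl, hquad]
      rw [← h2, mul_comm 4] at h1
      exact Nat.eq_of_mul_eq_mul_left Nat.card_pos h1
    rw [← card_mul_relIndex (le_sup_right : A ≤ H c ⊔ A), hri, h4]
    have := hp a b hab
    change 2 * Nat.card A = m at this
    omega
  obtain ⟨hk1, hcard⟩ := step i j k hij hk
  have hall : ∀ c, H c ≤ H i ⊔ H j := by
    intro c
    by_cases hc : H i ⊓ H j ≤ H c
    · by_cases hci : H c = H i
      · exact hci.trans_le le_sup_left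
      have hik : H i ≠ H k := fun h => hk (h ▸ inf_le_left)
      refine (step i k c hik fun h => hci ?_).1.trans (sup_le le_sup_left hk1)
      have hne : H i ⊓ H j ≠ H i ⊓ H k := fun h' => hk (h'.le.trans inf_le_right)
      have hgen := (half_pair (inf_le_left : H i ⊓ H j ≤ H i) (inf_le_left : H i ⊓ H k ≤ H i)
        (hhalf i j hij) (hhalf i k hik) hne).1
      exact (eq_of_le_of_card_ge (hgen ▸ sup_le hc h) (by rw [hm, hm])).symm
    · exact (step i j c hij hc).1
  refine Or.inr ⟨H i ⊔ H j, hall, hcard, fun a b hab => ?_⟩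
  refine eq_of_le_of_card_ge (sup_le (hall a) (hall b)) ?_
  rw [hcard]
  obtain ⟨d, hd⟩ := card_dvd_of_le (le_sup_left : H a ≤ H a ⊔ H b)
  rw [hd, hm, mul_comm 2]
  refine Nat.mul_le_mul_left _ ?_
  by_contra hlt
  have hle : Nat.card ↥(H a ⊔ H b) ≤ Nat.card (H a) := by
    rw [hd]
    exact le_of_le_of_eq (Nat.mul_le_mul_left _ (by omega : d ≤ 1)) (mul_one _)
  exact hab (eq_of_le_of_card_ge (le_sup_right.trans (eq_of_le_of_card_ge le_sup_left hle).ge)
    (by rw [hm, hm])).symm

end Cfsg.Agent.DerangeTwo
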