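import Cfsg.Agent.DerangeTwo.Count

/-!
# A transitive group has at least the proportion `2/n` of derangements, unless sharply two-transitive
-/

set_option autoImplicit false
set_option maxHeartbeats 1000000

namespace Cfsg.Agent.DerangeTwo

open MulAction Finset
open scoped Pointwise Classical

variable {G Ω : Type*} [Group G] [Fintype G] [MulAction G Ω] [Fintype Ω] [FaithfulSMul G Ω]

/-- The points fixed by a two-point stabiliser. -/
noncomputable def line (G : Type*) {Ω : Type*} [Group G] [MulAction G Ω] [Fintype Ω] (a b : Ω) : Finset Ω :=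
  univ.filter fun w => pst G a b ≤ stabilizer G w

omit [Fintype G] [FaithfulSMul G Ω] in
theorem mem_line {a b w : Ω} : w ∈ line G a b ↔ pst G a b ≤ stabilizer G w := by simp [line]

omit [Fintype G] [FaithfulSMul G Ω] in
theorem left_mem_line (a b : Ω) : a ∈ line G a b := mem_line.2 inf_le_left

omit [Fintype G] [FaithfulSMul G Ω] in
theorem right_mem_line (a b : Ω) : b ∈ line G a b := mem_line.2 inf_le_right

omit [Fintype G] [FaithfulSMul G Ω] in
theorem card_line_smul (g : G) (a b : Ω) : #(line G (g • a) (g • b)) = #(line G a b) := by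
  refine card_bij' (fun w _ => g⁻¹ • w) (fun w _ => g • w) ?_ ?_ (fun w _ => by simp)
    (fun w _ => by simp)
  · intro w hw
    rw [mem_line] at hw ⊢
    intro z hz
    have h := mem_stabilizer_iff.1 (hw ((conj_mem_pst g z).2 hz))
    rw [mul_smul, mul_smul] at h
    rw [mem_stabilizer_iff]
    calc z • g⁻¹ • w = g⁻¹ • (g • z • g⁻¹ • w) := by simp
      _ = g⁻¹ • w := by rw [h]
  · intro w hw
    rw [mem_line] at hw ⊢
    intro z hz
    have hz' : g⁻¹ * z * g ∈ pst G a b := (conj_mem_pst g _).1 (by simpa [mul_assoc] using hz)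
    have h := mem_stabilizer_iff.1 (hw hz')
    rw [mul_smul, mul_smul, inv_smul_eq_iff] at h
    exact mem_stabilizer_iff.2 h

omit [FaithfulSMul G Ω] in
theorem pst_eq_of_mem_line (h2 : IsMultiplyPretransitive G Ω 2) {a b c d : Ω} (hab : a ≠ b)
    (hcd : c ≠ d) (hc : c ∈ line G a b) (hd : d ∈ line G a b) : pst G a b = pst G c d :=
  Subgroup.eq_of_le_of_card_ge (le_inf (mem_line.1 hc) (mem_line.1 hd))
    (card_pst_eq h2 hcd hab).le

/-- A nontrivial element fixing two points fixes at most `(n-1)/(f-1)` points. -/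
theorem fix_mul_le (h2 : IsMultiplyPretransitive G Ω 2) {a b : Ω} (hab : a ≠ b) {g : G}
    (hg : g ∈ pst G a b) (hg1 : g ≠ 1) :
    #(fixF Ω g) * (#(line G a b) - 1) + 1 ≤ Fintype.card Ω := by
  obtain ⟨p, hp⟩ : ∃ p : Ω, g • p ≠ p := by
    by_contra h
    push Not at h
    exact hg1 (eq_of_smul_eq_smul (α := Ω) fun w => by rw [h w, one_smul])
  have hpc : ∀ c ∈ fixF Ω g, p ≠ c := fun c hc e => hp (e ▸ mem_fixF.1 hc)
  have hcard : ∀ c ∈ fixF Ω g, #((line G p c).erase p) = #(line G a b) - 1 := by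
    intro c hc
    obtain ⟨x, hx1, hx2⟩ := is_two_pretransitive_iff.1 h2 hab (hpc c hc)
    rw [card_erase_of_mem (left_mem_line p c), ← hx1, ← hx2, card_line_smul]
  have hdisj : (fixF Ω g : Set Ω).PairwiseDisjoint fun c => (line G p c).erase p := by
    intro c hc c' hc' hne
    simp only [Function.onFun, disjoint_left]
    intro x hx hx'
    rw [mem_erase] at hx hx'
    refine hp (mem_stabilizer_iff.1 ?_)
    have e1 := pst_eq_of_mem_line h2 (hpc c hc) (Ne.symm hx.1) (left_mem_line p c) hx.2
    have e2 := pst_eq_of_mem_line h2 (hpc c' hc') (Ne.symm hx.1) (left_mem_line p c') hx'.2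
    have e : pst G p c = pst G p c' := e1.trans e2.symm
    have hle : pst G p c ≤ pst G c c' := le_inf inf_le_right (e.le.trans inf_le_right)
    have heq := Subgroup.eq_of_le_of_card_ge hle (card_pst_eq h2 hne (hpc c hc)).le
    exact (heq.symm ▸ inf_le_left : pst G c c' ≤ stabilizer G p)
      (mem_pst.2 ⟨mem_fixF.1 hc, mem_fixF.1 hc'⟩)
  have hsub : (fixF Ω g).biUnion (fun c => (line G p c).erase p) ⊆ (univ : Finset Ω).erase p :=
    fun x hx => by
      obtain ⟨c, -, hx⟩ := mem_biUnion.1 hx
      exact mem_erase.2 ⟨(mem_erase.1 hx).1, mem_univ _⟩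
  have h := card_le_card hsub
  rw [card_biUnion hdisj, sum_congr rfl hcard, sum_const, smul_eq_mul,
    card_erase_of_mem (mem_univ p), card_univ] at h
  have : 1 ≤ Fintype.card Ω := Fintype.card_pos_iff.2 ⟨p⟩
  omega

/-- The elements of a two-point stabiliser. -/
noncomputable abbrev els (G : Type*) {Ω : Type*} [Group G] [Fintype G] [MulAction G Ω] (a b : Ω) : Finset G :=
  univ.filter (· ∈ pst G a b)

omit [FaithfulSMul G Ω] in
theorem card_els (a b : Ω) : #(els G a b) = Nat.card (pst G a b) := by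
  rw [Nat.card_eq_fintype_card]
  exact (Fintype.card_of_subtype _ fun g => by simp [els]).symm

omit [FaithfulSMul G Ω] in
theorem card_els_erase (a b : Ω) : #((els G a b).erase 1) = Nat.card (pst G a b) - 1 := by
  rw [card_erase_of_mem (by simp [els, one_mem]), card_els]

theorem fix_pos {a b : Ω} {g : G} (hg : g ∈ els G a b) : 0 < #(fixF Ω g) :=
  card_pos.2 ⟨a, mem_fixF.2 (mem_pst.1 (mem_filter.1 hg).2).1⟩

/-- The criterion from a uniform bound on fixed points. -/
theorem crit_of_bound {a b : Ω} {K : ℚ}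
    (hK : ∀ g ∈ (els G a b).erase 1, K ≤ (Fintype.card Ω : ℚ) / #(fixF Ω g))
    (h : 2 * (Nat.card (pst G a b) : ℚ) - 1 ≤ ((Nat.card (pst G a b) : ℚ) - 1) * K) :
    2 * (Nat.card (pst G a b) : ℚ) - 1 ≤
      ∑ g ∈ (els G a b).erase 1, (Fintype.card Ω : ℚ) / #(fixF Ω g) := by
  refine h.trans (le_of_eq_of_le ?_ (sum_le_sum hK))
  rw [sum_const, nsmul_eq_mul, card_els_erase, Nat.cast_sub Nat.card_pos, Nat.cast_one]

/-- The criterion from the orbit lengths, by the Cauchy–Schwarz inequality. -/
theorem crit_of_orbits {a b : Ω} (hh : 2 ≤ Nat.card (pst G a b))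
    (hX : (2 * (Nat.card (pst G a b) : ℚ) - 1) *
        ∑ c : Ω, (2 * (Nat.card ↥(pst G a b ⊓ stabilizer G c) : ℚ) - Nat.card (pst G a b)) ≤
      (Fintype.card Ω : ℚ) * Nat.card (pst G a b)) :
    2 * (Nat.card (pst G a b) : ℚ) - 1 ≤
      ∑ g ∈ (els G a b).erase 1, (Fintype.card Ω : ℚ) / #(fixF Ω g) := by
  set n : ℚ := ((Fintype.card Ω : ℕ) : ℚ)
  set h : ℚ := ((Nat.card (pst G a b) : ℕ) : ℚ) with hhdef
  set S := (els G a b).erase 1 with hS
  set T : ℚ := ∑ g ∈ S, (#(fixF Ω g) : ℚ) with hT
  have hcnt : T + n = ∑ c : Ω, (Nat.card ↥(pst G a b ⊓ stabilizer G c) : ℚ) := by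
    have h1 : ∑ g ∈ els G a b, #(fixF Ω g) = ∑ c : Ω, Nat.card ↥(pst G a b ⊓ stabilizer G c) := by
      simp only [fixF, card_filter]
      rw [sum_comm]
      refine sum_congr rfl fun c _ => ?_
      rw [← card_filter, filter_filter, Nat.card_eq_fintype_card]
      exact (Fintype.card_of_subtype _ fun g => by simp [Subgroup.mem_inf, mem_stabilizer_iff]).symm
    have h2 := add_sum_erase (els G a b) (fun g => #(fixF Ω g))
      (show (1 : G) ∈ els G a b by simp [els, one_mem])
    rw [h1, fixF_one, card_univ] at h2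
    rw [hT, add_comm]
    rw [← Nat.cast_sum, ← Nat.cast_sum, ← Nat.cast_add]
    exact congrArg Nat.cast h2
  rw [sum_sub_distrib, ← mul_sum, ← hcnt, sum_const, card_univ, nsmul_eq_mul] at hX
  have hh' : (2 : ℚ) ≤ h := by rw [hhdef]; exact_mod_cast hh
  have hpos : ∀ g ∈ S, (0 : ℚ) < #(fixF Ω g) := fun g hg => by
    exact_mod_cast fix_pos (mem_of_mem_erase hg)
  have hSc : (#S : ℚ) = h - 1 := by
    rw [hS, card_els_erase, Nat.cast_sub Nat.card_pos, Nat.cast_one]
  have hTpos : 0 < T := sum_pos hpos (card_pos.1 (by rw [hS, card_els_erase]; omega))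
  have hcs : (h - 1) ^ 2 / T ≤ ∑ g ∈ S, 1 / (#(fixF Ω g) : ℚ) := by
    have := sq_sum_div_le_sum_sq_div S (fun _ => (1 : ℚ)) hpos
    simpa [sum_const, nsmul_eq_mul, hSc] using this
  have hkey : 2 * h - 1 ≤ n * ((h - 1) ^ 2 / T) := by
    rw [mul_div_assoc', le_div_iff₀ hTpos]
    nlinarith
  refine hkey.trans ((mul_le_mul_of_nonneg_left hcs (Nat.cast_nonneg _)).trans_eq ?_)
  rw [mul_sum]
  exact sum_congr rfl fun g _ => by rw [mul_one_div]

omit [FaithfulSMul G Ω] in
theorem two_card_le_of_not_mem_line {a b c : Ω} (hc : c ∉ line G a b) :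
    2 * Nat.card ↥(pst G a b ⊓ stabilizer G c) ≤ Nat.card (pst G a b) := by
  obtain ⟨k, hk⟩ := Subgroup.card_dvd_of_le (inf_le_left : pst G a b ⊓ stabilizer G c ≤ _)
  have h1 : 2 ≤ k := by
    by_contra hlt
    refine hc (mem_line.2 ?_)
    have := Subgroup.eq_of_le_of_card_ge (inf_le_left : pst G a b ⊓ stabilizer G c ≤ _)
      (by rw [hk]; exact le_of_le_of_eq (Nat.mul_le_mul_left _ (by omega : k ≤ 1)) (mul_one _))
    exact this.ge.trans inf_le_right
  rw [hk, mul_comm 2]
  exact Nat.mul_le_mul_left _ h1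

/-- The orbit of `c` under a two-point stabiliser. -/
noncomputable def orb (G : Type*) {Ω : Type*} [Group G] [MulAction G Ω] [Fintype Ω] (a b c : Ω) : Finset Ω :=
  univ.filter fun x => ∃ k ∈ pst G a b, k • c = x

omit [Fintype G] [FaithfulSMul G Ω] in
theorem mem_orb {a b c x : Ω} : x ∈ orb G a b c ↔ ∃ k ∈ pst G a b, k • c = x := by simp [orb]

omit [FaithfulSMul G Ω] in
theorem card_stab_of_mem_orb {a b c x : Ω} (hx : x ∈ orb G a b c) :
    Nat.card ↥(pst G a b ⊓ stabilizer G x) = Nat.card ↥(pst G a b ⊓ stabilizer G c) := by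
  obtain ⟨k, hk, rfl⟩ := mem_orb.1 hx
  refine (Nat.card_congr (Equiv.subtypeEquiv (MulAut.conj k).toEquiv fun z => ?_)).symm
  simp only [MulEquiv.toEquiv_eq_coe, EquivLike.coe_coe, MulAut.conj_apply, Subgroup.mem_inf,
    mem_stabilizer_iff, mul_smul, inv_smul_smul, smul_left_cancel_iff]
  rw [Subgroup.mul_mem_cancel_right _ (inv_mem hk), Subgroup.mul_mem_cancel_left _ hk]

omit [FaithfulSMul G Ω] in
theorem card_orb_mul (a b c : Ω) :
    #(orb G a b c) * Nat.card ↥(pst G a b ⊓ stabilizer G c) = Nat.card (pst G a b) := by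
  have h := card_orbit_mul_card_stabilizer_eq_card_group (pst G a b) c
  rw [← Nat.card_eq_fintype_card, ← Nat.card_eq_fintype_card, ← Nat.card_eq_fintype_card] at h
  rw [← h, Nat.card_coe_set_eq]
  congr 1
  · rw [← Set.ncard_coe_finset]
    congr 1
    ext x
    simp only [orb, coe_filter, mem_univ, true_and, Set.mem_setOf_eq, MulAction.mem_orbit_iff]
    exact ⟨fun ⟨k, hk, e⟩ => ⟨⟨k, hk⟩, e⟩, fun ⟨k, e⟩ => ⟨k, k.2, e⟩⟩
  · refine Nat.card_congr
      ⟨fun z => ⟨⟨z, z.2.1⟩, z.2.2⟩, fun z => ⟨z.1, z.1.2, z.2⟩, fun _ => rfl, fun _ => rfl⟩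

/-- The key case: an orbit of length three and all others of length at most two is impossible. -/
theorem false_of_orbit_three (hn : 7 ≤ Fintype.card Ω) (h2 : IsMultiplyPretransitive G Ω 2)
    {a b c : Ω} (hab : a ≠ b) (hO : #(orb G a b c) = 3)
    (hrest : ∀ x, x ∉ orb G a b c →
      Nat.card (pst G a b) ≤ 2 * Nat.card ↥(pst G a b ⊓ stabilizer G x)) : False := by
  have := Fact.mk Nat.prime_three
  have h3 : 3 ∣ Nat.card (pst G a b) := ⟨_, (card_orb_mul a b c).symm.trans (by rw [hO])⟩
  obtain ⟨⟨t, ht⟩, hto⟩ := exists_prime_orderOf_dvd_card' 3 h3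
  rw [Subgroup.orderOf_mk] at hto
  have hfix : ∀ x, x ∉ orb G a b c → t • x = x := by
    intro x hx
    obtain ⟨k, hk⟩ := Subgroup.card_dvd_of_le (inf_le_left : pst G a b ⊓ stabilizer G x ≤ _)
    have hp : 0 < Nat.card ↥(pst G a b ⊓ stabilizer G x) := Nat.card_pos
    have hk2 : k = 1 ∨ k = 2 := by
      have h1 := hrest x hx
      rw [hk, mul_comm 2] at h1
      have h1' := Nat.le_of_mul_le_mul_left h1 hp
      rcases Nat.eq_zero_or_pos k with rfl | hk0
      · rw [mul_zero] at hk; exact absurd hk Nat.card_pos.ne'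
      · omega
    rcases hk2 with rfl | rfl
    · have := Subgroup.eq_of_le_of_card_ge (inf_le_left : pst G a b ⊓ stabilizer G x ≤ _)
        (by rw [hk, mul_one])
      exact mem_stabilizer_iff.1 (this.ge.trans inf_le_right ht)
    · have hidx : ((pst G a b ⊓ stabilizer G x).subgroupOf (pst G a b)).index = 2 :=
        relIndex_eq_two inf_le_left (by rw [hk, mul_comm])
      have h1 := Subgroup.mul_self_mem_of_index_two hidx
        ⟨t * t, mul_mem ht ht⟩
      have h4 : t * t * (t * t) = t := by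
        have h3 : t ^ 3 = 1 := by rw [← hto, pow_orderOf_eq_one]
        calc t * t * (t * t) = t ^ 3 * t := by simp [pow_succ, mul_assoc]
          _ = t := by rw [h3, one_mul]
      have h5 : t * t * (t * t) ∈ pst G a b ⊓ stabilizer G x := Subgroup.mem_subgroupOf.1 h1
      rw [h4] at h5
      exact mem_stabilizer_iff.1 (Subgroup.mem_inf.1 h5).2
  let φ : G →* Equiv.Perm Ω := MulAction.toPermHom G Ω
  have hinj : Function.Injective φ := fun g g' e =>
    eq_of_smul_eq_smul (α := Ω) fun w => Equiv.Perm.congr_fun e w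
  have hord : orderOf (φ t) = 3 := by rw [orderOf_injective φ hinj, hto]
  have hsupp : (φ t).support ⊆ orb G a b c := fun x hx => by
    by_contra hxo
    exact Equiv.Perm.mem_support.1 hx (hfix x hxo)
  have h3c : (φ t).IsThreeCycle := by
    rw [← card_support_eq_three_iff]
    have hle := (card_le_card hsupp).trans hO.le
    obtain ⟨k, hk⟩ := Equiv.Perm.cycleType_prime_order (by rw [hord]; exact Nat.prime_three)
    have hs := Equiv.Perm.sum_cycleType (φ t)
    rw [hk, hord, Multiset.sum_replicate, smul_eq_mul] at hs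
    have hk0 : k = 0 := by omega
    rw [hk0] at hs
    omega
  have h2' : IsMultiplyPretransitive φ.range Ω 2 := by
    rw [is_two_pretransitive_iff] at h2 ⊢
    intro p q r s hpq hrs
    obtain ⟨g, e1, e2⟩ := h2 hpq hrs
    exact ⟨⟨φ g, g, rfl⟩, e1, e2⟩
  have halt : alternatingGroup Ω ≤ φ.range :=
    Equiv.Perm.alternatingGroup_le_of_isPreprimitive_of_isThreeCycle_mem
      (isPreprimitive_of_is_two_pretransitive h2') h3c ⟨t, rfl⟩
  have hsub : ((univ : Finset Ω).erase a).erase b ⊆ orb G a b c := by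
    intro d hd
    rw [mem_erase, mem_erase] at hd
    have hcab : c ≠ a ∧ c ≠ b := by
      have h1 : ∀ w, (∀ k ∈ pst G a b, k • w = w) → c ≠ w := by
        rintro w hw rfl
        have : orb G a b c ⊆ {c} := fun x hx => by
          obtain ⟨k, hk, rfl⟩ := mem_orb.1 hx
          exact mem_singleton.2 (hw k hk)
        exact absurd ((card_le_card this).trans (card_singleton _).le) (by rw [hO]; norm_num)
      exact ⟨h1 a fun k hk => (mem_pst.1 hk).1, h1 b fun k hk => (mem_pst.1 hk).2⟩
    by_cases hcd : c = d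
    · subst hcd
      exact mem_orb.2 ⟨1, one_mem _, one_smul _ _⟩
    obtain ⟨e, he⟩ : ∃ e : Ω, e ∉ ({a, b, c, d} : Finset Ω) := by
      by_contra hall
      push Not at hall
      have h4 : ({a, b, c, d} : Finset Ω).card ≤ 4 := card_le_four
      have := (card_le_card (fun x _ => hall x : (univ : Finset Ω) ⊆ {a, b, c, d})).trans h4
      rw [card_univ] at this
      omega
    simp only [mem_insert, mem_singleton, not_or] at he
    obtain ⟨hea, heb, hec, hed⟩ := he
    obtain ⟨g, hg⟩ : Equiv.swap c d * Equiv.swap d e ∈ φ.range := halt (by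
      rw [Equiv.Perm.mem_alternatingGroup, map_mul, Equiv.Perm.sign_swap hcd,
        Equiv.Perm.sign_swap (Ne.symm hed)]
      rfl)
    have hval : ∀ x, g • x = Equiv.swap c d (Equiv.swap d e x) := fun x =>
      Equiv.Perm.congr_fun hg x
    refine mem_orb.2 ⟨g, mem_pst.2 ⟨?_, ?_⟩, ?_⟩
    · rw [hval, Equiv.swap_apply_of_ne_of_ne (Ne.symm hd.2.1) (Ne.symm hea),
        Equiv.swap_apply_of_ne_of_ne (Ne.symm hcab.1) (Ne.symm hd.2.1)]
    · rw [hval, Equiv.swap_apply_of_ne_of_ne (Ne.symm hd.1) (Ne.symm heb),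
        Equiv.swap_apply_of_ne_of_ne (Ne.symm hcab.2) (Ne.symm hd.1)]
    · rw [hval, Equiv.swap_apply_of_ne_of_ne hcd (Ne.symm hec), Equiv.swap_apply_left]
  have h := card_le_card hsub
  rw [card_erase_of_mem (mem_erase.2 ⟨hab.symm, mem_univ _⟩), card_erase_of_mem (mem_univ a),
    card_univ, hO] at h
  omega

/-- No doubly transitive group of degree seven has order 84. -/
theorem not_card_84 (hn : Fintype.card Ω = 7) (htr : IsPretransitive G Ω)
    (hG : Fintype.card G = 84) : False := by
  have := Fact.mk (show Nat.Prime 7 by norm_num)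
  obtain ⟨P⟩ := (inferInstance : Nonempty (Sylow 7 G))
  have hP1 : Nat.card (Sylow 7 G) = 1 := by
    have h1 := card_sylow_modEq_one 7 G
    have h2 : Nat.card (Sylow 7 G) ∣ (P : Subgroup G).index := P.card_dvd_index
    have h3 : (P : Subgroup G).index = 12 := by
      have h5 := (P : Subgroup G).card_mul_index
      rw [P.card_eq_multiplicity, Nat.card_eq_fintype_card, hG,
        show (84 : ℕ) = 7 ^ 1 * 12 by norm_num,
        Nat.factorization_mul (by norm_num) (by norm_num), Finsupp.add_apply,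
        (show Nat.Prime 7 by norm_num).factorization_pow, Finsupp.single_eq_same,
        Nat.factorization_eq_zero_of_not_dvd (by norm_num : ¬ 7 ∣ 12)] at h5
      norm_num at h5
      omega
    rw [h3] at h2
    have := Nat.le_of_dvd (by norm_num) h2
    unfold Nat.ModEq at h1
    interval_cases Nat.card (Sylow 7 G) <;> omega
  have hcP : Nat.card (P : Subgroup G) = 7 := by
    rw [P.card_eq_multiplicity, Nat.card_eq_fintype_card, hG,
      show (84 : ℕ) = 7 ^ 1 * 12 by norm_num,
      Nat.factorization_mul (by norm_num) (by norm_num), Finsupp.add_apply,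
      (show Nat.Prime 7 by norm_num).factorization_pow, Finsupp.single_eq_same,
      Nat.factorization_eq_zero_of_not_dvd (by norm_num : ¬ 7 ∣ 12)]
    norm_num
  obtain ⟨⟨t, ht⟩, hto⟩ := exists_prime_orderOf_dvd_card' 7 (dvd_of_eq hcP.symm)
  rw [Subgroup.orderOf_mk] at hto
  have : Subsingleton (Sylow 7 G) := (Nat.card_eq_one_iff_unique.1 hP1).1
  have : ((P : Subgroup G)).Normal := P.normal_of_subsingleton
  -- the orbits of `⟨t⟩` : one point moved means transitive
  obtain ⟨a, ha⟩ : ∃ a : Ω, t • a ≠ a := by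
    by_contra h
    push Not at h
    have : t = 1 := eq_of_smul_eq_smul (α := Ω) fun w => by rw [h w, one_smul]
    rw [this, orderOf_one] at hto
    omega
  have hper : Function.minimalPeriod (t • ·) a = 7 := by
    have hd : Function.minimalPeriod (t • ·) a ∣ 7 := by
      refine Function.IsPeriodicPt.minimalPeriod_dvd ?_
      rw [Function.IsPeriodicPt, Function.IsFixedPt, smul_iterate, ← hto, pow_orderOf_eq_one]
      exact one_smul _ _
    rcases (Nat.dvd_prime (by norm_num)).1 hd with h | h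
    · exact absurd (Function.minimalPeriod_eq_one_iff_isFixedPt.1 h) ha
    · exact h
  have horb : ∀ w : Ω, ∃ i : ℕ, t ^ i • a = w := by
    intro w
    have hinj : Function.Injective fun i : Fin 7 => t ^ (i : ℕ) • a := by
      intro i j e
      refine Fin.ext ((Function.iterate_eq_iterate_iff_of_lt_minimalPeriod
        (f := (t • ·)) (x := a) (by omega) (by omega)).1 ?_)
      simpa [smul_iterate] using e
    obtain ⟨i, hi⟩ := ((Fintype.bijective_iff_injective_and_card _).2
      ⟨hinj, by rw [Fintype.card_fin, hn]⟩).2 w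
    exact ⟨i, hi⟩
  -- the centraliser of `t`
  have hC : Nat.card (Subgroup.centralizer ({t} : Set G)) ≤ 7 := by
    rw [← hn, ← Nat.card_eq_fintype_card]
    refine Nat.card_le_card_of_injective (fun z => (z : G) • a) fun z z' e => ?_
    refine Subtype.ext (eq_of_smul_eq_smul (α := Ω) fun w => ?_)
    obtain ⟨i, rfl⟩ := horb w
    have hz : ∀ z : Subgroup.centralizer ({t} : Set G), (z : G) * t ^ i = t ^ i * z := fun z =>
      (Commute.pow_right (Subgroup.mem_centralizer_singleton_iff.1 z.2) i).eq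
    rw [← mul_smul, ← mul_smul, hz, hz, mul_smul, mul_smul]
    exact congrArg _ e
  have hcl : (Subgroup.centralizer ({t} : Set G)).index ≤ 6 := by
    let f : G ⧸ Subgroup.centralizer ({t} : Set G) → {x : (P : Subgroup G) // x ≠ 1} :=
      Quotient.lift (fun g => (⟨⟨g * t * g⁻¹, Subgroup.Normal.conj_mem inferInstance t ht g⟩,
        fun e => by
          have e1 : g * t * g⁻¹ = 1 := congrArg Subtype.val e
          have : t = 1 := by
            calc t = g⁻¹ * (g * t * g⁻¹) * g := by group
              _ = 1 := by rw [e1]; group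
          rw [this, orderOf_one] at hto
          omega⟩ : {x : (P : Subgroup G) // x ≠ 1})) fun g g' e => by
            refine Subtype.ext (Subtype.ext ?_)
            have h1 := Subgroup.mem_centralizer_singleton_iff.1 (QuotientGroup.leftRel_apply.1 e)
            calc g * t * g⁻¹ = g * (t * (g⁻¹ * g')) * g'⁻¹ := by group
              _ = g * (g⁻¹ * g' * t) * g'⁻¹ := by rw [h1]
              _ = g' * t * g'⁻¹ := by group
    have hf : Function.Injective f := by
      intro x y
      induction x using Quotient.inductionOn with | _ g =>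
      induction y using Quotient.inductionOn with | _ g' =>
      intro e
      have e' : g * t * g⁻¹ = g' * t * g'⁻¹ := congrArg (fun z => ((z.1 : (P : Subgroup G)) : G)) e
      refine Quotient.sound (QuotientGroup.leftRel_apply.2 (Subgroup.mem_centralizer_singleton_iff.2 ?_))
      calc g⁻¹ * g' * t = g⁻¹ * (g' * t * g'⁻¹) * g' := by group
        _ = g⁻¹ * (g * t * g⁻¹) * g' := by rw [e']
        _ = t * (g⁻¹ * g') := by group
    refine (Nat.card_le_card_of_injective f hf).trans (le_of_eq ?_)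
    rw [Nat.card_eq_fintype_card, Fintype.card_subtype_compl, Fintype.card_subtype_eq,
      ← Nat.card_eq_fintype_card, hcP]
  have := (Subgroup.centralizer ({t} : Set G)).card_mul_index
  rw [Nat.card_eq_fintype_card (α := G), hG] at this
  have := Nat.mul_le_mul hC hcl
  omega

/-- The doubly transitive case with nontrivial two-point stabilisers. -/
theorem exists_crit (hn : 7 ≤ Fintype.card Ω) (htr : IsPretransitive G Ω)
    (h2 : IsMultiplyPretransitive G Ω 2) {a₀ b₀ : Ω} (hab₀ : a₀ ≠ b₀)
    (hh : 2 ≤ Nat.card (pst G a₀ b₀)) :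
    ∃ a b : Ω, a ≠ b ∧ 2 * (Nat.card (pst G a b) : ℚ) - 1 ≤
      ∑ g ∈ (els G a b).erase 1, (Fintype.card Ω : ℚ) / #(fixF Ω g) := by
  set h := Nat.card (pst G a₀ b₀) with hhdef
  have hh' : ∀ a b : Ω, a ≠ b → Nat.card (pst G a b) = h := fun a b hab => card_pst_eq h2 hab hab₀
  set f := #(line G a₀ b₀) with hfdef
  have hf' : ∀ a b : Ω, a ≠ b → #(line G a b) = f := fun a b hab => by
    obtain ⟨x, hx1, hx2⟩ := is_two_pretransitive_iff.1 h2 hab₀ hab
    rw [← hx1, ← hx2, card_line_smul]
  have hbound : ∀ a b : Ω, a ≠ b → ∀ g ∈ (els G a b).erase 1,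
      #(fixF Ω g) * (f - 1) + 1 ≤ Fintype.card Ω ∧ 0 < #(fixF Ω g) := by
    intro a b hab g hg
    refine ⟨?_, fix_pos (mem_of_mem_erase hg)⟩
    rw [← hf' a b hab]
    exact fix_mul_le h2 hab (mem_filter.1 (mem_of_mem_erase hg)).2 (ne_of_mem_erase hg)
  have hf2 : 2 ≤ f := by
    have : ({a₀, b₀} : Finset Ω) ⊆ line G a₀ b₀ := by
      simp [insert_subset_iff, left_mem_line, right_mem_line]
    exact le_of_eq_of_le (card_pair hab₀).symm (card_le_card this)
  have hhq : (2 : ℚ) ≤ h := by exact_mod_cast hh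
  have hn0 : (0 : ℚ) < Fintype.card Ω := by exact_mod_cast (by omega : 0 < Fintype.card Ω)
  -- lines with at least four points
  by_cases hf4 : 4 ≤ f
  · refine ⟨a₀, b₀, hab₀, crit_of_bound (K := 3) (fun g hg => ?_) ?_⟩
    · obtain ⟨h1, h0⟩ := hbound a₀ b₀ hab₀ g hg
      rw [le_div_iff₀ (by exact_mod_cast h0)]
      have : #(fixF Ω g) * 3 ≤ #(fixF Ω g) * (f - 1) := Nat.mul_le_mul_left _ (by omega)
      exact_mod_cast (by omega : 3 * #(fixF Ω g) ≤ Fintype.card Ω)
    · rw [← hhdef]; linarith
  by_cases hf3 : f = 3 ∧ Fintype.card Ω ≤ 2 * h - 1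
  · refine ⟨a₀, b₀, hab₀, crit_of_bound
      (K := 2 * (Fintype.card Ω : ℚ) / ((Fintype.card Ω : ℚ) - 1)) (fun g hg => ?_) ?_⟩
    · obtain ⟨h1, h0⟩ := hbound a₀ b₀ hab₀ g hg
      have hn1 : (1 : ℚ) < Fintype.card Ω := by exact_mod_cast (by omega : 1 < Fintype.card Ω)
      rw [div_le_div_iff₀ (by linarith) (by exact_mod_cast h0)]
      rw [hf3.1] at h1
      have : ((#(fixF Ω g) : ℚ) * 2 + 1) ≤ Fintype.card Ω := by exact_mod_cast h1
      nlinarith
    · have hn1 : (1 : ℚ) < Fintype.card Ω := by exact_mod_cast (by omega : 1 < Fintype.card Ω)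
      have hle : (Fintype.card Ω : ℚ) ≤ 2 * h - 1 := by
        have : Fintype.card Ω + 1 ≤ 2 * h := by omega
        have : ((Fintype.card Ω : ℚ) + 1) ≤ 2 * h := by exact_mod_cast this
        linarith
      rw [← hhdef, mul_div_assoc', le_div_iff₀ (by linarith)]
      nlinarith
  have hpair : f = 2 ∨ (f = 3 ∧ 2 * h ≤ Fintype.card Ω) := by omega
  rcases Nat.lt_or_ge h 3 with hlt | hge
  · -- two-point stabilisers of order two
    have hh2 : h = 2 := by omega
    have hpg : IsPGroup 2 (pst G a₀ b₀) := IsPGroup.of_card (n := 1) (by rw [← hhdef, hh2, pow_one])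
    have hfix : ∀ g ∈ (els G a₀ b₀).erase 1, #(fixF Ω g) = f := by
      intro g hg
      have hgH : g ∈ pst G a₀ b₀ := (mem_filter.1 (mem_of_mem_erase hg)).2
      have hz : Subgroup.zpowers g = pst G a₀ b₀ := by
        refine Subgroup.eq_of_le_of_card_ge (Subgroup.zpowers_le.2 hgH) ?_
        rw [Nat.card_zpowers, ← hhdef, hh2]
        rcases Nat.lt_or_ge (orderOf g) 2 with h' | h'
        · have := orderOf_pos g
          exact absurd (orderOf_eq_one_iff.1 (by omega)) (ne_of_mem_erase hg)
        · exact h'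
      rw [hfdef, line, fixF, ← hz]
      simp [Subgroup.zpowers_le, mem_stabilizer_iff]
    refine ⟨a₀, b₀, hab₀, crit_of_bound (K := 3) (fun g hg => ?_) (by rw [← hhdef]; linarith)⟩
    rw [hfix g hg, le_div_iff₀ (by exact_mod_cast (by omega : 0 < f))]
    rcases hpair with hf | ⟨hf, -⟩
    · rw [hf]; exact_mod_cast (by omega : 3 * 2 ≤ Fintype.card Ω)
    · rw [hf]
      have hodd : Fintype.card Ω % 2 = 1 := by
        have hm := hpg.card_modEq_card_fixedPoints Ω
        rw [Nat.card_eq_fintype_card] at hm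
        have : Nat.card (fixedPoints (pst G a₀ b₀) Ω) = f := by
          rw [Nat.card_eq_fintype_card, hfdef]
          refine Fintype.card_of_subtype _ fun w => ?_
          simp [mem_line, SetLike.le_def, Subgroup.smul_def, mem_stabilizer_iff]
        rw [this, hf] at hm
        exact hm
      have h7 : Fintype.card Ω ≠ 7 := fun e => by
        refine not_card_84 e htr ?_
        rw [card_eq_mul_pst h2 hab₀, ← hhdef, hh2, e]
      exact_mod_cast (by omega : 3 * 3 ≤ Fintype.card Ω)
  -- an orbit of length at least three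
  obtain ⟨a, b, hab, c, hcline, hc⟩ : ∃ a b : Ω, a ≠ b ∧ ∃ c, c ∉ line G a b ∧
      2 * Nat.card ↥(pst G a b ⊓ stabilizer G c) < h := by
    by_contra hno
    push Not at hno
    refine false_of_small_orbits (by omega) h2 hge hh' fun a b c hab hac hne => ?_
    have hcl : c ∉ line G a b := fun hm =>
      hne (Subgroup.eq_of_le_of_card_ge (le_inf inf_le_left (mem_line.1 hm))
        (by rw [hh' a b hab, hh' a c hac]))
    have h1 := two_card_le_of_not_mem_line hcl
    have h2' := hno a b hab c hcl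
    rw [hh' a b hab] at h1
    have he : pst G a b ⊓ pst G a c = pst G a b ⊓ stabilizer G c := by
      simp only [pst]
      exact le_antisymm (inf_le_inf le_rfl inf_le_right) (le_inf inf_le_left (le_inf
        (inf_le_left.trans inf_le_left) inf_le_right))
    rw [he]
    omega
  refine ⟨a, b, hab, crit_of_orbits (by rw [hh' a b hab]; exact hh) ?_⟩
  rw [hh' a b hab]
  have hOdisj : ∀ x : Ω, ∀ z ∈ orb G a b x, x ∉ line G a b → z ∉ line G a b := by
    intro x z hz hx hzl
    refine hx (mem_line.2 ?_)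
    obtain ⟨k, hk, rfl⟩ := mem_orb.1 hz
    intro w hw
    have h1 := mem_stabilizer_iff.1 (mem_line.1 hzl (mul_mem (mul_mem hk hw) (inv_mem hk)))
    rw [mul_smul, mul_smul, inv_smul_smul, smul_left_cancel_iff] at h1
    exact mem_stabilizer_iff.2 h1
  set v : Ω → ℚ := fun x => 2 * (Nat.card ↥(pst G a b ⊓ stabilizer G x) : ℚ) - h with hv
  have hneg : ∀ x, x ∉ line G a b → v x ≤ 0 := fun x hx => by
    have h1 := two_card_le_of_not_mem_line hx
    rw [hh' a b hab] at h1
    have : (2 * (Nat.card ↥(pst G a b ⊓ stabilizer G x) : ℚ)) ≤ h := by exact_mod_cast h1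
    simp only [hv]; linarith
  have hline : ∀ x ∈ line G a b, v x = h := fun x hx => by
    simp only [hv]
    rw [inf_eq_left.2 (mem_line.1 hx), hh' a b hab]; ring
  have horb : ∀ x, ∑ z ∈ orb G a b x, v z = 2 * h - #(orb G a b x) * (h : ℚ) := fun x => by
    rw [sum_congr rfl (fun z hz => show v z = v x by simp only [hv, card_stab_of_mem_orb hz]),
      sum_const, nsmul_eq_mul]
    have h1 := card_orb_mul (G := G) a b x
    rw [hh' a b hab] at h1
    have h2 : (#(orb G a b x) : ℚ) * Nat.card ↥(pst G a b ⊓ stabilizer G x) = h := by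
      exact_mod_cast h1
    simp only [hv]
    linarith [h2]
  have hbig : ∀ x, x ∉ line G a b → 2 * Nat.card ↥(pst G a b ⊓ stabilizer G x) < h →
      3 ≤ #(orb G a b x) := fun x _ hx => by
    have h1 := card_orb_mul (G := G) a b x
    rw [hh' a b hab] at h1
    by_contra hlt
    have := Nat.mul_le_mul_right (Nat.card ↥(pst G a b ⊓ stabilizer G x)) (by omega : #(orb G a b x) ≤ 2)
    omega
  obtain ⟨O, hOsub, hOsum⟩ : ∃ O : Finset Ω, (∀ z ∈ O, z ∉ line G a b) ∧
      ∑ z ∈ O, v z ≤ -2 * (h : ℚ) := by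
    have hs3 := hbig c hcline hc
    rcases Nat.lt_or_ge (#(orb G a b c)) 4 with hlt | hge4
    · have hs : #(orb G a b c) = 3 := by omega
      obtain ⟨d, hdo, hdl⟩ : ∃ d, d ∉ orb G a b c ∧
          2 * Nat.card ↥(pst G a b ⊓ stabilizer G d) < h := by
        by_contra hno
        push Not at hno
        exact false_of_orbit_three hn h2 hab hs fun x hx => by
          rw [hh' a b hab]; exact hno x hx
      have hdline : d ∉ line G a b := fun hm => by
        rw [inf_eq_left.2 (mem_line.1 hm), hh' a b hab] at hdl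
        omega
      have hd3 := hbig d hdline hdl
      have hdis : Disjoint (orb G a b c) (orb G a b d) := by
        rw [disjoint_left]
        intro z hz hz'
        obtain ⟨k, hk, rfl⟩ := mem_orb.1 hz
        obtain ⟨k', hk', e⟩ := mem_orb.1 hz'
        refine hdo (mem_orb.2 ⟨k'⁻¹ * k, mul_mem (inv_mem hk') hk, ?_⟩)
        rw [mul_smul, ← e, inv_smul_smul]
      refine ⟨orb G a b c ∪ orb G a b d, fun z hz => ?_, ?_⟩
      · rcases mem_union.1 hz with hz | hz
        exacts [hOdisj c z hz hcline, hOdisj d z hz hdline]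
      · rw [sum_union hdis, horb, horb, hs]
        have : (3 : ℚ) ≤ #(orb G a b d) := by exact_mod_cast hd3
        push_cast
        nlinarith
    · refine ⟨orb G a b c, fun z hz => hOdisj c z hz hcline, ?_⟩
      rw [horb]
      have : (4 : ℚ) ≤ #(orb G a b c) := by exact_mod_cast hge4
      nlinarith
  have hX : ∑ x : Ω, v x ≤ ((f : ℚ) - 2) * h := by
    rw [← sum_add_sum_compl (line G a b), sum_congr rfl hline, sum_const, hf' a b hab,
      nsmul_eq_mul]
    have h1 : ∑ x ∈ (line G a b)ᶜ, v x ≤ ∑ z ∈ O, v z := by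
      rw [← sum_sdiff (show O ⊆ (line G a b)ᶜ from fun z hz => mem_compl.2 (hOsub z hz))]
      have : ∑ z ∈ (line G a b)ᶜ \ O, v z ≤ 0 :=
        sum_nonpos fun z hz => hneg z (mem_compl.1 (mem_sdiff.1 hz).1)
      linarith
    linarith
  refine (mul_le_mul_of_nonneg_left hX (by linarith)).trans ?_
  rcases hpair with hf | ⟨hf, hle⟩
  · rw [hf]; norm_num; positivity
  · rw [hf]
    have : (2 * (h : ℚ)) ≤ Fintype.card Ω := by exact_mod_cast hle
    push_cast
    nlinarith

theorem main (hn : 7 ≤ Fintype.card Ω) (htr : IsPretransitive G Ω) :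
    (∃ a : ℕ, (a = 1 ∨ a = 2) ∧ (MulAction.IsPretransitive G Ω ∧
        (∃ g : G, g ≠ 1 ∧ ∃ ω : Ω, g • ω = ω) ∧
        ∀ g : G, g ≠ 1 → Nat.card (MulAction.fixedBy Ω g) ≤ 1) ∧
      a * Nat.card G = Fintype.card Ω * (Fintype.card Ω - 1) ∧
      Fintype.card Ω * Nat.card {g : G // ∀ ω : Ω, g • ω ≠ ω} = a * Nat.card G) ∨
    2 * Nat.card G ≤ Fintype.card Ω * Nat.card {g : G // ∀ ω : Ω, g • ω ≠ ω} := by
  have : Nonempty Ω := Fintype.card_pos_iff.1 (by omega)
  have hd : Nat.card {g : G // ∀ ω : Ω, g • ω ≠ ω} =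
      #(univ.filter fun g : G => #(fixF Ω g) = 0) := by
    rw [Nat.card_eq_fintype_card]
    refine Fintype.card_of_subtype _ fun g => ?_
    simp [fixF, filter_eq_empty_iff]
  rw [hd, Nat.card_eq_fintype_card]
  rcases two_or_three_le_sum_sq (G := G) (by omega) htr with h2 | h3
  swap
  · exact Or.inr (two_card_le_of_sum_sq htr h3)
  obtain ⟨a, b, hab⟩ := Fintype.exists_pair_of_one_lt_card (α := Ω) (by omega)
  rcases Nat.lt_or_ge (Nat.card (pst G a b)) 2 with h1 | hh
  swap
  · obtain ⟨a', b', hab', hc⟩ := exists_crit hn htr h2 hab hh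
    exact Or.inr (two_card_le_of_criterion (by omega) htr h2 hab' hc)
  left
  have h1' : Nat.card (pst G a b) = 1 := by
    have : 0 < Nat.card (pst G a b) := Nat.card_pos
    omega
  have hG : Fintype.card G = Fintype.card Ω * (Fintype.card Ω - 1) := by
    rw [card_eq_mul_pst h2 hab, h1', mul_one]
  have hle1 : ∀ g : G, g ≠ 1 → #(fixF Ω g) ≤ 1 := by
    intro g hg
    by_contra hlt
    obtain ⟨x, hx, y, hy, hxy⟩ := one_lt_card.1 (not_le.1 hlt)
    have hb : pst G x y = ⊥ := Subgroup.eq_bot_of_card_le _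
      (by rw [card_pst_eq h2 hxy hab, h1'])
    have hm : g ∈ pst G x y := mem_pst.2 ⟨mem_fixF.1 hx, mem_fixF.1 hy⟩
    rw [hb] at hm
    exact hg (Subgroup.mem_bot.1 hm)
  set d := #(univ.filter fun g : G => #(fixF Ω g) = 0) with hddef
  have hsum : Fintype.card G = Fintype.card Ω + (Fintype.card G - 1 - d) ∧ d + 1 ≤ Fintype.card G := by
    have h := sum_fix (G := G) htr
    rw [← add_sum_erase _ _ (mem_univ (1 : G)), fixF_one, card_univ] at h
    have hz : ∀ g ∈ (univ : Finset G).erase 1,
        #(fixF Ω g) = if #(fixF Ω g) = 0 then 0 else 1 := fun g hg => by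
      have := hle1 g (ne_of_mem_erase hg)
      split_ifs <;> omega
    rw [sum_congr rfl hz, sum_ite, sum_const_zero, zero_add, sum_const, smul_eq_mul, mul_one] at h
    have hc : d + #(((univ : Finset G).erase 1).filter fun g => ¬ #(fixF Ω g) = 0) + 1 =
        Fintype.card G := by
      have h3 := card_filter_add_card_filter_not (s := (univ : Finset G).erase 1)
        (fun g => #(fixF Ω g) = 0)
      have h4 : ((univ : Finset G).erase 1).filter (fun g => #(fixF Ω g) = 0) =
          univ.filter fun g : G => #(fixF Ω g) = 0 := by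
        ext g
        simp only [mem_filter, mem_erase, mem_univ, and_true, true_and, and_iff_right_iff_imp]
        rintro h rfl
        rw [fixF_one, card_univ] at h
        omega
      rw [h4, card_erase_of_mem (mem_univ _), card_univ] at h3
      have : 0 < Fintype.card G := Fintype.card_pos
      omega
    omega
  refine ⟨1, Or.inl rfl, ⟨htr, ?_, fun g hg => by rw [card_fixedBy]; exact hle1 g hg⟩,
    by rw [one_mul, hG], ?_⟩
  · by_contra hno
    push Not at hno
    have : d + 1 = Fintype.card G := by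
      have h4 : (univ.filter fun g : G => #(fixF Ω g) = 0) = univ.erase 1 := by
        ext g
        simp only [mem_filter, mem_erase, mem_univ, and_true, true_and, card_eq_zero, fixF,
          filter_eq_empty_iff]
        constructor
        · rintro h rfl
          exact h (x := a) trivial (one_smul _ _)
        · intro hg w _
          exact hno g hg w
      have : 0 < Fintype.card G := Fintype.card_pos
      rw [hddef, h4, card_erase_of_mem (mem_univ _), card_univ]
      omega
    obtain ⟨k, hk⟩ : ∃ k, Fintype.card Ω = k + 2 := ⟨Fintype.card Ω - 2, by omega⟩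
    have h5 : Fintype.card G = Fintype.card Ω := by omega
    rw [hG, hk, show k + 2 - 1 = k + 1 by omega] at h5
    nlinarith
  · rw [one_mul]
    obtain ⟨hs1, hs2⟩ := hsum
    have : d = Fintype.card Ω - 1 := by omega
    rw [this, hG]

end Cfsg.Agent.DerangeTwo
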