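import Cfsg.Agent.DerangeTwo.Family

/-!
# Doubly transitive groups whose two-point stabilisers have orbits of length at most two
-/

set_option autoImplicit false

namespace Cfsg.Agent.DerangeTwo

open MulAction
open scoped Pointwise

variable {G Ω : Type*} [Group G] [Finite G] [MulAction G Ω]

/-- The stabiliser of two points. -/
def pst (G : Type*) {Ω : Type*} [Group G] [MulAction G Ω] (a b : Ω) : Subgroup G :=
  stabilizer G a ⊓ stabilizer G b

omit [Finite G] in
theorem mem_pst {a b : Ω} {g : G} : g ∈ pst G a b ↔ g • a = a ∧ g • b = b := by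
  simp [pst, Subgroup.mem_inf, mem_stabilizer_iff]

omit [Finite G] in
theorem pst_comm (a b : Ω) : pst G a b = pst G b a := inf_comm _ _

omit [Finite G] in
theorem conj_mem_pst {a b : Ω} (g x : G) :
    g * x * g⁻¹ ∈ pst G (g • a) (g • b) ↔ x ∈ pst G a b := by
  simp [mem_pst, mul_smul]

theorem card_pst_smul (g : G) (a b : Ω) :
    Nat.card (pst G (g • a) (g • b)) = Nat.card (pst G a b) := by
  refine Nat.card_congr (Equiv.subtypeEquiv (MulAut.conj g).toEquiv fun x => ?_).symm
  exact (conj_mem_pst g x).symm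

/-- The two-point stabilisers all have the same order. -/
theorem card_pst_eq (h2 : IsMultiplyPretransitive G Ω 2) {a b c d : Ω} (hab : a ≠ b) (hcd : c ≠ d) :
    Nat.card (pst G a b) = Nat.card (pst G c d) := by
  obtain ⟨g, rfl, rfl⟩ := is_two_pretransitive_iff.1 h2 hab hcd
  exact (card_pst_smul g a b).symm

variable [FaithfulSMul G Ω]

omit [Finite G] in
theorem eq_bot_of_fix {A : Subgroup G} (h : ∀ g ∈ A, ∀ w : Ω, g • w = w) : A = ⊥ :=
  eq_bot_iff.2 fun g hg => Subgroup.mem_bot.2 (eq_of_smul_eq_smul (α := Ω) fun w => by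
    rw [h g hg w, one_smul])

/-- If all two-point stabilisers of order at least three meet in index at most two when they share
a point, the group is not doubly transitive. -/
theorem false_of_small_orbits [Fintype Ω] (hn : 3 ≤ Fintype.card Ω)
    (h2 : IsMultiplyPretransitive G Ω 2) {m : ℕ} (hm3 : 3 ≤ m)
    (hm : ∀ a b : Ω, a ≠ b → Nat.card (pst G a b) = m)
    (hsmall : ∀ a b c : Ω, a ≠ b → a ≠ c → pst G a b ≠ pst G a c →
      2 * Nat.card ↥(pst G a b ⊓ pst G a c) = m) : False := by
  classical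
  have hne : ∀ a : Ω, ∃ b, b ≠ a := fun a => Fintype.exists_ne_of_one_lt_card (by omega) a
  -- the subgroups `M a`
  let M : Ω → Subgroup G := fun a => ⨆ x : {x : Ω // x ≠ a}, pst G a x
  have hMle : ∀ {a b : Ω}, b ≠ a → pst G a b ≤ M a := fun {a b} h =>
    le_iSup (fun x : {x : Ω // x ≠ a} => pst G a x) ⟨b, h⟩
  have hMfix : ∀ a, M a ≤ stabilizer G a := fun a => iSup_le fun x => inf_le_left
  have hdata : ∀ a, Nat.card (M a) = 2 * m ∧
      ∀ x, x ≠ a → 2 * Nat.card (pst G a x) = Nat.card (M a) := by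
    intro a
    obtain ⟨b, hb⟩ := hne a
    have : Nonempty {x : Ω // x ≠ a} := ⟨⟨b, hb⟩⟩
    rcases halves_dichotomy (fun x : {x : Ω // x ≠ a} => pst G a x) m
      (fun x => hm a x x.2.symm) (fun x y h => hsmall a x y x.2.symm y.2.symm h) with
      ⟨A, hA, hAm⟩ | ⟨P, hP, hPc, hPj⟩
    · have : A = ⊥ := eq_bot_of_fix fun g hg w => by
        by_cases hw : w = a
        · exact hw ▸ (mem_pst.1 (hA ⟨b, hb⟩ hg)).1
        · exact (mem_pst.1 (hA ⟨w, hw⟩ hg)).2
      rw [this, Subgroup.card_bot] at hAm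
      omega
    · have hMP : M a = P := by
        refine le_antisymm (iSup_le hP) ?_
        by_cases hall : ∀ x y : {x : Ω // x ≠ a}, pst G a x = pst G a y
        · exfalso
          have : pst G a b = ⊥ := eq_bot_of_fix fun g hg w => by
            by_cases hw : w = a
            · exact hw ▸ (mem_pst.1 hg).1
            · exact (mem_pst.1 ((hall ⟨b, hb⟩ ⟨w, hw⟩).le hg)).2
          have := hm a b hb.symm
          rw [‹pst G a b = ⊥›, Subgroup.card_bot] at this
          omega
        · push Not at hall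
          obtain ⟨x, y, hxy⟩ := hall
          rw [← hPj x y hxy]
          exact sup_le (hMle x.2) (hMle y.2)
      exact ⟨by rw [hMP, hPc], fun x hx => by rw [hMP, hPc, hm a x hx.symm]⟩
  have hcardM : ∀ a, Nat.card (M a) = 2 * m := fun a => (hdata a).1
  -- each `M a` is commutative
  have hsq : ∀ a, ∀ g ∈ M a, g * g = 1 := by
    intro a g hg
    have : ∀ x, x ≠ a → g * g ∈ pst G a x := fun x hx => by
      have hidx : ((pst G a x).subgroupOf (M a)).index = 2 :=
        relIndex_eq_two (hMle hx) ((hdata a).2 x hx)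
      exact Subgroup.mem_subgroupOf.1 (Subgroup.mul_self_mem_of_index_two hidx ⟨g, hg⟩)
    refine eq_of_smul_eq_smul (α := Ω) fun w => ?_
    rw [one_smul]
    by_cases hw : w = a
    · subst hw
      rw [mul_smul, mem_stabilizer_iff.1 (hMfix w hg), mem_stabilizer_iff.1 (hMfix w hg)]
    · exact (mem_pst.1 (this w hw)).2
  have hcomm : ∀ a, ∀ g ∈ M a, ∀ k ∈ M a, g * k = k * g := by
    intro a g hg k hk
    have h1 := hsq a _ (mul_mem hg hk)
    have e1 : g⁻¹ = g := inv_eq_of_mul_eq_one_right (hsq a g hg)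
    have e2 : k⁻¹ = k := inv_eq_of_mul_eq_one_right (hsq a k hk)
    calc g * k = (g * k)⁻¹ := (inv_eq_of_mul_eq_one_right h1).symm
      _ = k * g := by rw [mul_inv_rev, e1, e2]
  -- the meets
  have hinf : ∀ a b : Ω, a ≠ b → M a ⊓ M b = pst G a b := fun a b hab =>
    le_antisymm (inf_le_inf (hMfix a) (hMfix b))
      (le_inf (hMle hab.symm) ((pst_comm (G := G) a b).le.trans (hMle hab)))
  have hinj : ∀ a b : Ω, a ≠ b → M a ≠ M b := fun a b hab h => by
    have h1 := hinf a b hab
    rw [← h, inf_idem] at h1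
    have := hcardM a
    rw [h1, hm a b hab] at this
    omega
  have : Nonempty Ω := Fintype.card_pos_iff.1 (by omega)
  rcases halves_dichotomy M (2 * m) hcardM (fun a b h => by
      have hab : a ≠ b := fun e => h (e ▸ rfl)
      rw [hinf a b hab, hm a b hab]) with ⟨A, hA, hAm⟩ | ⟨P, hP, -, hPj⟩
  · have : A = ⊥ := eq_bot_of_fix fun g hg w => mem_stabilizer_iff.1 (hMfix w (hA w hg))
    rw [this, Subgroup.card_bot] at hAm
    omega
  -- `P` centralises every two-point stabiliser, hence every `M c`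
  have hcent : ∀ a x : Ω, x ≠ a → ∀ p ∈ P, ∀ z ∈ pst G a x, p * z = z * p := by
    intro a x hxa p hp z hz
    have hp' : p ∈ M a ⊔ M x := (hPj a x (hinj a x hxa.symm)).symm ▸ hp
    have hle : M a ⊔ M x ≤ Subgroup.centralizer {z} := sup_le
      (fun k hk => Subgroup.mem_centralizer_singleton_iff.2 (hcomm a k hk z (hMle hxa hz)))
      (fun k hk => Subgroup.mem_centralizer_singleton_iff.2
        (hcomm x k hk z (hMle hxa.symm ((pst_comm (G := G) a x).le hz))))
    exact Subgroup.mem_centralizer_singleton_iff.1 (hle hp')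
  have habel : ∀ a, ∀ p ∈ P, ∀ z ∈ M a, p * z = z * p := by
    intro a p hp z hz
    have : M a ≤ Subgroup.centralizer {p} := iSup_le fun x => fun k hk =>
      Subgroup.mem_centralizer_singleton_iff.2 (hcent a x x.2 p hp k hk).symm
    exact (Subgroup.mem_centralizer_singleton_iff.1 (this hz)).symm
  -- so every element of `P` fixes every point
  have hfix : ∀ p ∈ P, ∀ a : Ω, p • a = a := by
    intro p hp a
    by_contra hne'
    refine hinj a (p • a) (Ne.symm hne') (Subgroup.eq_of_le_of_card_ge ?_ (by rw [hcardM, hcardM]))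
    refine iSup_le fun x => ?_
    intro z hz
    have h1 : p * z * p⁻¹ ∈ pst G (p • a) (p • (x : Ω)) := (conj_mem_pst p z).2 hz
    rw [habel a p hp z (hMle x.2 hz), mul_inv_cancel_right] at h1
    exact hMle (fun e => x.2 (MulAction.injective p e)) h1
  obtain ⟨a⟩ := (inferInstance : Nonempty Ω)
  have hbot : M a = ⊥ := eq_bot_of_fix fun g hg w => hfix g (hP a hg) w
  have := hcardM a
  rw [hbot, Subgroup.card_bot] at this
  omega

end Cfsg.Agent.DerangeTwo
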